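import Mathlib
import Cfsg.Agent.Lib.Helper56.TC
import Cfsg.Agent.Lib.Helper56.TCFast
import Cfsg.Agent.Lib.Helper19.J1B.DA0
set_option autoImplicit false
set_option maxRecDepth 1000000

namespace Cfsg.Agent.Lib.Helper19.J1B

open Cfsg.Agent.Lib.Helper56.TC Cfsg.Agent.Lib.Helper56.TC.Tabs

noncomputable def nA : List (List ℕ) := [nA0]

noncomputable def fA : List (List ℕ) := [fA0]

/-- The certificate data. -/
noncomputable def T : Tabs where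
  K := 3
  N := 266
  N' := 2028
  INF := 2016
  fuel := 5
  inv := fun l => Tabs.nth 0 [0, 2, 1] l
  tg := slotFld2 nA 123 133 10889035741470030830827987437816582766591 3 31 40 2047 (fun _ => 0)
  rk := slotFld2 nA 123 133 10889035741470030830827987437816582766591 3 31 51 2047
    (fun x => Nat.rec (motive := fun _ => ℕ) 0 (fun _ _ => 2016) x)
  jc := slotFld2 nA 123 133 10889035741470030830827987437816582766591 3 31 62 511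
    (fun x => Nat.rec (motive := fun _ => ℕ) 3 (fun _ _ => 0) x)
  dd := fldA nA 123 133 10889035741470030830827987437816582766591 0 63
  dl := fldA nA 123 133 10889035741470030830827987437816582766591 6 3
  qj := fldA nA 123 133 10889035741470030830827987437816582766591 8 1023
  mp := fldA nA 123 133 10889035741470030830827987437816582766591 18 2047
  mt := fldA nA 123 133 10889035741470030830827987437816582766591 29 2047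
  tb := tbFld2 fA 321 51 2251799813685247 9 24 511
  rels1 := [[1, 1, 1],
    [0, 1, 0, 1, 0, 1, 0, 1, 0, 1, 0, 1, 0, 1],
    [0, 1, 0, 1, 0, 2, 0, 1, 0, 2, 0, 1, 0, 2, 0, 1, 0, 1, 0, 2, 0, 1, 0, 2, 0, 1, 0, 2, 0, 1, 0, 1, 0, 2, 0, 1, 0, 2, 0, 1, 0, 2, 0, 1, 0, 1, 0, 2, 0, 1, 0, 2, 0, 1, 0, 2, 0, 1, 0, 1, 0, 2, 0, 1, 0, 2, 0, 1, 0, 2],
    [0, 1, 0, 1, 0, 2, 0, 1, 0, 2, 0, 1, 0, 2, 0, 1, 0, 2, 0, 1, 0, 2, 0, 1, 0, 2, 0, 1, 0, 1, 0, 2, 0, 2, 0, 1, 0, 1, 0, 2, 0, 1, 0, 2, 0, 1, 0, 2, 0, 1, 0, 2, 0, 1, 0, 2, 0, 1, 0, 2, 0, 1, 0, 1, 0, 2, 0, 2]]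
  subs := [[0],
    [1, 0, 2, 0, 1, 0, 1, 0, 1, 0, 2, 0, 2, 0, 1, 0, 1, 0, 2, 0, 1, 0, 1, 0, 2, 0, 2, 0, 2, 0, 1, 0, 2]]
  rx := [[1, 1, 1],
    [0, 1, 0, 1, 0, 1, 0, 1, 0, 1, 0, 1, 0, 1],
    [0, 1, 0, 1, 0, 2, 0, 1, 0, 2, 0, 1, 0, 2, 0, 1, 0, 1, 0, 2, 0, 1, 0, 2, 0, 1, 0, 2, 0, 1, 0, 1, 0, 2, 0, 1, 0, 2, 0, 1, 0, 2, 0, 1, 0, 1, 0, 2, 0, 1, 0, 2, 0, 1, 0, 2, 0, 1, 0, 1, 0, 2, 0, 1, 0, 2, 0, 1, 0, 2],
    [0, 1, 0, 1, 0, 2, 0, 1, 0, 2, 0, 1, 0, 2, 0, 1, 0, 2, 0, 1, 0, 2, 0, 1, 0, 2, 0, 1, 0, 1, 0, 2, 0, 2, 0, 1, 0, 1, 0, 2, 0, 1, 0, 2, 0, 1, 0, 2, 0, 1, 0, 2, 0, 1, 0, 2, 0, 1, 0, 2, 0, 1, 0, 1, 0, 2, 0, 2],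
    [0, 3],
    [1, 0, 2, 0, 1, 0, 1, 0, 1, 0, 2, 0, 2, 0, 1, 0, 1, 0, 2, 0, 1, 0, 1, 0, 2, 0, 2, 0, 2, 0, 1, 0, 2, 4]]
  RB := 71
  tpl := fldA fA 321 51 2251799813685247 0 3
  tdep := fldA fA 321 51 2251799813685247 2 31
  ol := fldA fA 321 51 2251799813685247 7 7
  oc := fldA fA 321 51 2251799813685247 10 1
  op := fldA fA 321 51 2251799813685247 11 511
  odep := fldA fA 321 51 2251799813685247 20 15
  orep := fun c => Tabs.nth 0 [0, 1, 5, 13, 31] c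

end Cfsg.Agent.Lib.Helper19.J1B
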